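import Groth.Prelude.Def_W4stkremschemesLRS
import Mathlib.AlgebraicGeometry.Morphisms.ClosedImmersion

/-!
Closed immersions of locally ringed spaces into an affine scheme.
-/

set_option autoImplicit false
set_option backward.isDefEq.respectTransparency false
set_option backward.isDefEq.respectTransparency.types false

universe u

open CategoryTheory TopologicalSpace Opposite AlgebraicGeometry

namespace Groth.Agent.LRSImm8

section General

variable {Z X : LocallyRingedSpace.{u}} (i : Z ⟶ X)

/-- The section is killed by `i`. -/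
def Killed (U : Opens X.toTopCat) (s : X.presheaf.obj (op U)) : Prop := i.c.app (op U) s = 0

/-- The stalks of the kernel are spanned by germs of killed sections, locally uniformly. -/
def LG : Prop :=
  ∀ x : X.toTopCat, ∃ (U : Opens X.toTopCat) (_ : x ∈ U) (ι : Type u) (s : ι → X.presheaf.obj (op U)),
    (∀ j, Killed i U (s j)) ∧
    ∀ (x' : X.toTopCat) (hx' : x' ∈ U) (W : Opens X.toTopCat) (hW : x' ∈ W) (t : X.presheaf.obj (op W)),
      Killed i W t → X.presheaf.germ W x' hW t ∈ Ideal.span (Set.range fun j => X.presheaf.germ U x' hx' (s j))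

/-- Surjectivity on stalks. -/
def SurjStalks : Prop := ∀ z : Z.toTopCat, Function.Surjective (i.stalkMap z).hom

variable {i}

theorem killed_res {U W : Opens X.toTopCat} (h : W ≤ U) {s : X.presheaf.obj (op U)} (hs : Killed i U s) :
    Killed i W (X.presheaf.map (homOfLE h).op s) := by
  show i.c.app (op W) (X.presheaf.map (homOfLE h).op s) = 0
  rw [← ConcreteCategory.comp_apply, i.c.naturality, ConcreteCategory.comp_apply,
    show i.c.app (op U) s = 0 from hs]
  exact map_zero _

theorem lg_of (h : LRSImm.KerLocallyGenerated i) : LG i := fun x => by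
  obtain ⟨U, hx, ι, s, hs, hspan⟩ := h x
  refine ⟨U, hx, ι, s, hs, fun x' hx' W hW t ht => ?_⟩
  rw [hspan x' hx', RingHom.mem_ker]
  refine (TopCat.Presheaf.stalkFunctor_map_germ_apply W x' hW i.c t).trans ?_
  rw [show i.c.app (op W) t = 0 from ht]
  exact map_zero _

/-- Opens of `Z` come from `X`. -/
theorem exists_preimage_eq (he : Topology.IsClosedEmbedding i.base) (W : Opens Z.toTopCat) :
    ∃ W' : Opens X.toTopCat, (Opens.map i.base).obj W' = W := by
  obtain ⟨V, hV, e⟩ := he.isInducing.isOpen_iff.1 W.isOpen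
  exact ⟨⟨V, hV⟩, Opens.ext e⟩

theorem surjStalks_of (he : Topology.IsClosedEmbedding i.base)
    (hs : TopCat.Presheaf.IsLocallySurjective i.c) : SurjStalks i := by
  intro z y
  obtain ⟨W, hzW, y, rfl⟩ := Z.presheaf.germ_exist y
  obtain ⟨W', rfl⟩ := exists_preimage_eq he W
  obtain ⟨V, hVW, ⟨t, ht⟩, hzV⟩ := (TopCat.Presheaf.isLocallySurjective_iff i.c).1 hs W' y (i.base z) hzW
  refine ⟨X.presheaf.germ V (i.base z) hzV t, ?_⟩
  refine (LocallyRingedSpace.stalkMap_germ_apply i V z hzV t).trans ?_
  refine (congrArg (Z.presheaf.germ _ z hzV) ht).trans ?_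
  exact Z.presheaf.germ_res_apply ((Opens.map i.base).map (homOfLE hVW)) z hzV y

/-- A germ killed by the stalk map is the germ of a killed section. -/
theorem exists_killed (he : Topology.IsClosedEmbedding i.base) {z : Z.toTopCat}
    {w : X.presheaf.stalk (i.base z)} (hw : (i.stalkMap z).hom w = 0) :
    ∃ (W : Opens X.toTopCat) (hzW : i.base z ∈ W) (t : X.presheaf.obj (op W)),
      Killed i W t ∧ X.presheaf.germ W (i.base z) hzW t = w := by
  obtain ⟨U, hzU, t, rfl⟩ := X.presheaf.germ_exist w
  have h0 : Z.presheaf.germ ((Opens.map i.base).obj U) z hzU (i.c.app (op U) t) =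
      Z.presheaf.germ ((Opens.map i.base).obj U) z hzU 0 :=
    (LocallyRingedSpace.stalkMap_germ_apply i U z hzU t).symm.trans (hw.trans (map_zero _).symm)
  obtain ⟨V, hzV, iU, iU', e⟩ := Z.presheaf.germ_eq z hzU hzU _ _ h0
  rw [map_zero] at e
  obtain ⟨V', rfl⟩ := exists_preimage_eq he V
  refine ⟨U ⊓ V', ⟨hzU, hzV⟩, X.presheaf.map (homOfLE inf_le_left).op t, ?_, X.presheaf.germ_res_apply _ _ _ t⟩
  show i.c.app (op (U ⊓ V')) (X.presheaf.map (homOfLE inf_le_left).op t) = 0
  rw [← ConcreteCategory.comp_apply, i.c.naturality, ConcreteCategory.comp_apply]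
  refine Eq.trans ?_ (map_zero (Z.presheaf.map ((Opens.map i.base).map (homOfLE (inf_le_right : U ⊓ V' ≤ V'))).op).hom)
  rw [← e]
  show Z.presheaf.map _ (i.c.app (op U) t) = Z.presheaf.map _ (Z.presheaf.map _ (i.c.app (op U) t))
  rw [← ConcreteCategory.comp_apply, ← Z.presheaf.map_comp]
  rfl

/-- Zero sections over an open missing the image. -/
theorem killed_of_disjoint {U : Opens X.toTopCat} (h : ∀ z, i.base z ∉ U) (s : X.presheaf.obj (op U)) :
    Killed i U s := by
  refine TopCat.Presheaf.section_ext Z.sheaf ((Opens.map i.base).obj U) _ _ fun z hz => ?_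
  exact absurd hz (h z)

theorem killed_of_cover {ι : Type*} {U : Opens X.toTopCat} (V : ι → Opens X.toTopCat) (hV : ∀ j, V j ≤ U)
    (hc : U ≤ iSup V) {s : X.presheaf.obj (op U)}
    (h : ∀ j, Killed i (V j) (X.presheaf.map (homOfLE (hV j)).op s)) : Killed i U s := by
  refine TopCat.Presheaf.section_ext Z.sheaf ((Opens.map i.base).obj U) _ _ fun z hz => ?_
  obtain ⟨j, hj⟩ := Opens.mem_iSup.1 (hc hz)
  refine (Z.presheaf.germ_res_apply ((Opens.map i.base).map (homOfLE (hV j))) z hj _).symm.trans ?_
  refine Eq.trans ?_ (map_zero (Z.presheaf.germ ((Opens.map i.base).obj U) z hz).hom).symm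
  have e : Z.presheaf.map ((Opens.map i.base).map (homOfLE (hV j))).op (i.c.app (op U) s) = 0 :=
    (ConcreteCategory.congr_hom (i.c.naturality (homOfLE (hV j)).op) s).symm.trans (h j)
  exact (congrArg (Z.presheaf.germ ((Opens.map i.base).obj (V j)) z hj) e).trans (map_zero _)

end General

section Affine

variable {R : CommRingCat.{u}} {Z : LocallyRingedSpace.{u}} (i : Z ⟶ (Spec R).toLocallyRingedSpace)

/-- Sections of the structure sheaf of `Spec R`. -/
noncomputable abbrev am (U : Opens (PrimeSpectrum R)) (a : R) : (Spec.structureSheaf R).presheaf.obj (op U) :=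
  algebraMap R _ a

local instance (r : R) : IsLocalization (Submonoid.powers r)
    ((Spec.structureSheaf R).presheaf.obj (op (PrimeSpectrum.basicOpen r))) :=
  StructureSheaf.IsLocalization.to_basicOpen R r

theorem am_res {U V : Opens (PrimeSpectrum R)} (h : V ≤ U) (a : R) :
    (Spec.structureSheaf R).presheaf.map (homOfLE h).op (am U a) = am V a :=
  ConcreteCategory.congr_hom (StructureSheaf.algebraMap_self_map _ _ _ (homOfLE h).op) a

theorem germ_am (U : Opens (PrimeSpectrum R)) (p : PrimeSpectrum R) (hp : p ∈ U) (a : R) :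
    (Spec.structureSheaf R).presheaf.germ U p hp (am U a) =
      algebraMap R ((Spec.structureSheaf R).presheaf.stalk p) a :=
  ConcreteCategory.congr_hom (StructureSheaf.algebraMap_germ U p hp) a

/-- The map on global sections. -/
noncomputable def φ₀ : R ⟶ Z.presheaf.obj (op ⊤) := (Scheme.ΓSpecIso R).inv ≫ i.c.app (op ⊤)

/-- The ideal. -/
noncomputable def I : Ideal R := RingHom.ker (φ₀ i).hom

theorem mem_I {a : R} : a ∈ I i ↔ Killed i ⊤ (am (R := R) ⊤ a) := Iff.rfl

variable {i} (hg : LG i)
include hg

/-- A global function killed over `D(g)` is killed everywhere after a power of `g`. -/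
theorem exists_pow_mem (g a : R) (h : Killed i (PrimeSpectrum.basicOpen g) (am _ a)) :
    ∃ m : ℕ, g ^ m * a ∈ I i := by
  have hloc : ∀ q : PrimeSpectrum R, ∃ (e : R) (m : ℕ), q ∈ PrimeSpectrum.basicOpen e ∧
      Killed i (PrimeSpectrum.basicOpen e) (am _ (g ^ m * a)) := by
    intro q
    obtain ⟨U, hqU, ι, s, hs, hspan⟩ := hg q
    obtain ⟨_, ⟨e, rfl⟩, hqe, heU⟩ := PrimeSpectrum.isTopologicalBasis_basic_opens.exists_subset_of_mem_open hqU U.isOpen
    let T : Ideal R :=
      { carrier := {t | Killed i (PrimeSpectrum.basicOpen e) (am _ (t * a))}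
        add_mem' := fun {t t'} ht ht' => by
          show i.c.app _ (am _ ((t + t') * a)) = 0
          rw [add_mul, am, map_add, map_add, show i.c.app _ (am _ (t * a)) = 0 from ht,
            show i.c.app _ (am _ (t' * a)) = 0 from ht']
          exact add_zero _
        zero_mem' := by
          show i.c.app _ (am _ (0 * a)) = 0
          rw [zero_mul, am, map_zero]
          exact map_zero _
        smul_mem' := fun c t ht => by
          show i.c.app _ (am _ (c * t * a)) = 0
          rw [mul_assoc, am, map_mul, map_mul, show i.c.app _ (am _ (t * a)) = 0 from ht]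
          exact mul_zero _ }
    have hrad : e * g ∈ T.radical := by
      rw [← PrimeSpectrum.vanishingIdeal_zeroLocus_eq_radical, PrimeSpectrum.mem_vanishingIdeal]
      intro r hr
      by_contra hcon
      have hre : e ∉ r.asIdeal := fun h' => hcon (r.asIdeal.mul_mem_right g h')
      have hrg : g ∉ r.asIdeal := fun h' => hcon (r.asIdeal.mul_mem_left e h')
      let S := (Spec.structureSheaf R).presheaf.stalk r
      let K : Ideal R :=
        { carrier := {t | Killed i (PrimeSpectrum.basicOpen e) (am _ t)}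
          add_mem' := fun {t t'} ht ht' => by
            show i.c.app _ (am _ (t + t')) = 0
            rw [am, map_add, map_add, show i.c.app _ (am _ t) = 0 from ht, show i.c.app _ (am _ t') = 0 from ht']
            exact add_zero _
          zero_mem' := by
            show i.c.app _ (am _ 0) = 0
            rw [am, map_zero]
            exact map_zero _
          smul_mem' := fun c t ht => by
            show i.c.app _ (am _ (c * t)) = 0
            rw [am, map_mul, map_mul, show i.c.app _ (am _ t) = 0 from ht]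
            exact mul_zero _ }
      have hmem : algebraMap R S a ∈ K.map (algebraMap R S) := by
        rw [← germ_am (PrimeSpectrum.basicOpen g) r hrg a]
        refine Ideal.span_le.2 ?_ (hspan r (heU hre) (PrimeSpectrum.basicOpen g) hrg (am _ a) h)
        rintro _ ⟨j, rfl⟩
        obtain ⟨⟨b, ⟨_, n, rfl⟩⟩, hb⟩ := IsLocalization.surj (Submonoid.powers e)
          (S := (Spec.structureSheaf R).presheaf.obj (op (PrimeSpectrum.basicOpen e)))
          ((Spec.structureSheaf R).presheaf.map (homOfLE (show PrimeSpectrum.basicOpen e ≤ U from heU)).op (s j))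
        simp only at hb
        have hbK : b ∈ K := by
          refine (congrArg (i.c.app (op (PrimeSpectrum.basicOpen e))).hom hb.symm).trans ?_
          refine (map_mul (i.c.app (op (PrimeSpectrum.basicOpen e))).hom _ _).trans ?_
          refine (congrArg (· * _) (killed_res heU (hs j))).trans ?_
          exact zero_mul _
        have e1 := congrArg ((Spec.structureSheaf R).presheaf.germ (PrimeSpectrum.basicOpen e) r hre) hb
        rw [map_mul, TopCat.Presheaf.germ_res_apply, germ_am, germ_am] at e1
        have hu : IsUnit (algebraMap R S (e ^ n)) :=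
          IsLocalization.map_units S (⟨e ^ n, fun h' => hre (r.isPrime.mem_of_pow_mem n h')⟩ : r.asIdeal.primeCompl)
        refine (Ideal.mul_unit_mem_iff_mem _ hu).1 ?_
        exact e1 ▸ Ideal.mem_map_of_mem _ hbK
      obtain ⟨⟨⟨b, hb⟩, ⟨v, hv⟩⟩, hbv⟩ := (IsLocalization.mem_map_algebraMap_iff r.asIdeal.primeCompl S).1 hmem
      simp only [← map_mul] at hbv
      obtain ⟨⟨w, hw⟩, hw'⟩ := (IsLocalization.eq_iff_exists r.asIdeal.primeCompl S).1 hbv
      have hwv : w * v ∈ T := by
        show Killed i _ (am _ (w * v * a))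
        rw [mul_assoc, mul_comm v a, show w * (a * v) = w * b from hw']
        exact K.mul_mem_left w hb
      exact (r.isPrime.mem_or_mem (hr hwv)).elim hw hv
    obtain ⟨m, hm⟩ := hrad
    refine ⟨e, m, hqe, ?_⟩
    have hu : IsUnit (am (PrimeSpectrum.basicOpen e) (e ^ m)) :=
      IsLocalization.map_units _ (⟨e ^ m, m, rfl⟩ : Submonoid.powers e)
    show i.c.app (op (PrimeSpectrum.basicOpen e)) (algebraMap R _ (g ^ m * a)) = 0
    have hm' : i.c.app (op (PrimeSpectrum.basicOpen e)) (algebraMap R _ ((e * g) ^ m * a)) = 0 := hm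
    rw [mul_pow, mul_assoc, map_mul, map_mul] at hm'
    exact (IsUnit.mul_right_eq_zero (hu.map (i.c.app (op (PrimeSpectrum.basicOpen e))).hom)).1 hm'
  choose e m hqe hk using hloc
  obtain ⟨t, ht⟩ := (isCompact_univ (X := PrimeSpectrum R)).elim_finite_subcover
    (fun q => (PrimeSpectrum.basicOpen (e q) : Set (PrimeSpectrum R))) (fun q => (PrimeSpectrum.basicOpen (e q)).isOpen)
    (fun q _ => Set.mem_iUnion.2 ⟨q, hqe q⟩)
  refine ⟨t.sup m, (mem_I i).2 ?_⟩
  refine killed_of_cover (X := (Spec R).toLocallyRingedSpace) (fun q : t => (PrimeSpectrum.basicOpen (e q.1) : (Spec R).Opens)) (fun _ => le_top) ?_ fun q => ?_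
  · intro x _
    obtain ⟨q, hq, hx⟩ := Set.mem_iUnion₂.1 (ht (Set.mem_univ x))
    exact Opens.mem_iSup.2 ⟨⟨q, hq⟩, hx⟩
  · show i.c.app _ _ = 0
    refine (congrArg (i.c.app (op (PrimeSpectrum.basicOpen (e q.1)))) (am_res le_top _)).trans ?_
    rw [← Nat.sub_add_cancel (Finset.le_sup (f := m) q.2), pow_add, mul_assoc, am, map_mul, map_mul,
      show i.c.app _ (am _ (g ^ m q.1 * a)) = 0 from hk q.1]
    exact mul_zero _

/-- Germs of killed sections lie in the extension of `I`. -/
theorem germ_mem_map {W : Opens (PrimeSpectrum R)} {p : PrimeSpectrum R} (hp : p ∈ W)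
    (t : (Spec.structureSheaf R).presheaf.obj (op W)) (ht : Killed i W t) :
    (Spec.structureSheaf R).presheaf.germ W p hp t ∈
      (I i).map (algebraMap R ((Spec.structureSheaf R).presheaf.stalk p)) := by
  obtain ⟨_, ⟨g, rfl⟩, hpg, hgW⟩ := PrimeSpectrum.isTopologicalBasis_basic_opens.exists_subset_of_mem_open hp W.isOpen
  obtain ⟨⟨a, ⟨_, n, rfl⟩⟩, ha⟩ := IsLocalization.surj (Submonoid.powers g)
    (S := (Spec.structureSheaf R).presheaf.obj (op (PrimeSpectrum.basicOpen g)))
    ((Spec.structureSheaf R).presheaf.map (homOfLE (show PrimeSpectrum.basicOpen g ≤ W from hgW)).op t)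
  simp only at ha
  obtain ⟨m, hm⟩ := exists_pow_mem hg g a (by
    refine (congrArg (i.c.app (op (PrimeSpectrum.basicOpen g))).hom ha.symm).trans ?_
    refine (map_mul (i.c.app (op (PrimeSpectrum.basicOpen g))).hom _ _).trans ?_
    refine (congrArg (· * _) (killed_res hgW ht)).trans ?_
    exact zero_mul _)
  have e1 := congrArg ((Spec.structureSheaf R).presheaf.germ (PrimeSpectrum.basicOpen g) p hpg) ha
  rw [map_mul, TopCat.Presheaf.germ_res_apply, germ_am, germ_am] at e1
  have hu : ∀ k : ℕ, IsUnit (algebraMap R ((Spec.structureSheaf R).presheaf.stalk p) (g ^ k)) := fun k =>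
    IsLocalization.map_units _ (⟨g ^ k, fun h' => hpg (p.isPrime.mem_of_pow_mem k h')⟩ : p.asIdeal.primeCompl)
  refine (Ideal.mul_unit_mem_iff_mem _ (hu n)).1 ((Ideal.unit_mul_mem_iff_mem _ (hu m)).1 ?_)
  rw [e1, ← map_mul]
  exact Ideal.mem_map_of_mem _ hm

omit hg in
theorem stalkMap_I {a : R} (ha : a ∈ I i) (z : Z.toTopCat) :
    (i.stalkMap z).hom (algebraMap R ((Spec.structureSheaf R).presheaf.stalk (i.base z)) a) = 0 := by
  rw [← germ_am ⊤ (i.base z) trivial a]
  refine (LocallyRingedSpace.stalkMap_germ_apply i ⊤ z trivial _).trans ?_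
  rw [show i.c.app (op ⊤) (am ⊤ a) = 0 from ha]
  exact map_zero _

variable (he : Topology.IsClosedEmbedding i.base)
include he

theorem mem_range_iff (p : PrimeSpectrum R) :
    p ∈ Set.range i.base ↔ I i ≤ p.asIdeal := by
  constructor
  · rintro ⟨z, rfl⟩ a ha
    by_contra hn
    have hu := (IsLocalization.map_units ((Spec.structureSheaf R).presheaf.stalk (i.base z))
      (⟨a, hn⟩ : (show PrimeSpectrum R from i.base z).asIdeal.primeCompl)).map (i.stalkMap z).hom
    exact not_isUnit_zero ((stalkMap_I ha z) ▸ hu)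
  · intro h
    by_contra hn
    let U : Opens (PrimeSpectrum R) := ⟨(Set.range i.base)ᶜ, he.isClosed_range.isOpen_compl⟩
    have h1 := germ_mem_map hg (W := U) (p := p) hn 1 (killed_of_disjoint (X := (Spec R).toLocallyRingedSpace) (U := U) (fun z (hz : i.base z ∈ (Set.range i.base)ᶜ) => hz ⟨z, rfl⟩) _)
    rw [map_one] at h1
    haveI : IsLocalRing ((Spec.structureSheaf R).presheaf.stalk p) :=
      IsLocalization.AtPrime.isLocalRing _ p.asIdeal
    have h2 : (I i).map (algebraMap R ((Spec.structureSheaf R).presheaf.stalk p)) ≤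
        IsLocalRing.maximalIdeal _ := Ideal.map_le_iff_le_comap.2 (fun a ha =>
      (IsLocalization.AtPrime.to_map_mem_maximal_iff ((Spec.structureSheaf R).presheaf.stalk p) p.asIdeal a).2 (h ha))
    exact (IsLocalRing.maximalIdeal.isMaximal _).ne_top ((Ideal.eq_top_iff_one _).2 (h2 h1))

theorem ker_stalkMap (z : Z.toTopCat) (w : (Spec.structureSheaf R).presheaf.stalk (i.base z))
    (hw : (i.stalkMap z).hom w = 0) :
    w ∈ (I i).map (algebraMap R ((Spec.structureSheaf R).presheaf.stalk (i.base z))) := by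
  obtain ⟨W, hzW, t, ht, rfl⟩ := exists_killed he hw
  exact germ_mem_map hg hzW t ht

end Affine

end Groth.Agent.LRSImm8
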