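import Groth.Agent.Lib.LRSImm8.Basic

/-!
A closed immersion of locally ringed spaces into `Spec R` is `Spec (R/I) ⟶ Spec R`.
-/

set_option autoImplicit false
set_option backward.isDefEq.respectTransparency false
set_option backward.isDefEq.respectTransparency.types false

universe u

open CategoryTheory TopologicalSpace Opposite AlgebraicGeometry

namespace Groth.Agent.LRSImm8

variable {R : CommRingCat.{u}} {Z Z' : LocallyRingedSpace.{u}}

theorem isIso_factor (g : Z ⟶ Z') (j : Z' ⟶ (Spec R).toLocallyRingedSpace)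
    (he : Topology.IsClosedEmbedding (g ≫ j).base) (hs : SurjStalks (g ≫ j)) (hg : LG (g ≫ j))
    (hje : Topology.IsClosedEmbedding j.base) (hjs : SurjStalks j)
    (hjI : I (g ≫ j) ≤ I j) : IsIso g := by
  have hcomp : (⇑(g ≫ j).base : Z.toTopCat → PrimeSpectrum R) = ⇑j.base ∘ ⇑g.base := rfl
  have hemb : Topology.IsEmbedding g.base :=
    Topology.IsEmbedding.of_comp g.base.hom.continuous j.base.hom.continuous (hcomp ▸ he.isEmbedding)
  have hsurj : Function.Surjective g.base := fun z' => by
    have hle : I (g ≫ j) ≤ (show PrimeSpectrum R from j.base z').asIdeal := by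
      intro a ha
      by_contra hn
      have hu := (IsLocalization.map_units ((Spec.structureSheaf R).presheaf.stalk (j.base z'))
        (⟨a, hn⟩ : (show PrimeSpectrum R from j.base z').asIdeal.primeCompl)).map (j.stalkMap z').hom
      exact not_isUnit_zero ((stalkMap_I (hjI ha) z') ▸ hu)
    obtain ⟨z, hz⟩ := (mem_range_iff hg he (j.base z')).2 hle
    exact ⟨z, hje.injective hz⟩
  have hopen : Topology.IsOpenEmbedding g.base :=
    ⟨hemb, by rw [hsurj.range_eq]; exact isOpen_univ⟩
  haveI : ∀ z : Z.toTopCat, IsIso (g.stalkMap z) := fun z => by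
    refine (ConcreteCategory.isIso_iff_bijective _).2 ⟨?_, fun y => ?_⟩
    · rw [injective_iff_map_eq_zero]
      intro y hy
      obtain ⟨w, rfl⟩ := hjs (g.base z) y
      have h0 : ((g ≫ j).stalkMap z).hom w = 0 :=
        (ConcreteCategory.congr_hom (LocallyRingedSpace.stalkMap_comp g j z) w).trans hy
      have hw := ker_stalkMap hg he z w h0
      have hle : (I (g ≫ j)).map (algebraMap R ((Spec.structureSheaf R).presheaf.stalk (j.base (g.base z)))) ≤
          RingHom.ker (j.stalkMap (g.base z)).hom :=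
        Ideal.map_le_iff_le_comap.2 fun a ha => stalkMap_I (hjI ha) (g.base z)
      exact hle hw
    · obtain ⟨w, hw⟩ := hs z y
      exact ⟨(j.stalkMap (g.base z)).hom w,
        (ConcreteCategory.congr_hom (LocallyRingedSpace.stalkMap_comp g j z) w).symm.trans hw⟩
  haveI := LocallyRingedSpace.IsOpenImmersion.of_stalk_iso g hopen
  haveI : Epi g.base := (TopCat.epi_iff_surjective _).2 hsurj
  exact LocallyRingedSpace.IsOpenImmersion.to_iso g

theorem isIso_factor' {i : Z ⟶ (Spec R).toLocallyRingedSpace} (g : Z ⟶ Z')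
    (j : Z' ⟶ (Spec R).toLocallyRingedSpace) (h : g ≫ j = i)
    (he : Topology.IsClosedEmbedding i.base) (hs : SurjStalks i) (hg : LG i)
    (hje : Topology.IsClosedEmbedding j.base) (hjs : SurjStalks j) (hjI : I i ≤ I j) : IsIso g := by
  subst h
  exact isIso_factor g j he hs hg hje hjs hjI

variable (i : Z ⟶ (Spec R).toLocallyRingedSpace)

theorem homEquiv_symm_eq :
    (ΓSpec.locallyRingedSpaceAdjunction.homEquiv Z (op R)).symm i = (φ₀ i).op := by
  rw [Adjunction.homEquiv_counit]
  rfl

/-- Closed immersions into affine schemes are affine. -/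
theorem exists_iso_quotient (he : Topology.IsClosedEmbedding i.base) (hs : SurjStalks i) (hg : LG i) :
    ∃ e : Z ≅ (Spec (CommRingCat.of (R ⧸ I i))).toLocallyRingedSpace,
      e.hom ≫ (Spec.map (CommRingCat.ofHom (Ideal.Quotient.mk (I i)))).toLRSHom = i := by
  let q : R ⟶ CommRingCat.of (R ⧸ I i) := CommRingCat.ofHom (Ideal.Quotient.mk (I i))
  let φ : CommRingCat.of (R ⧸ I i) ⟶ Z.presheaf.obj (op ⊤) :=
    CommRingCat.ofHom (Ideal.Quotient.lift (I i) (φ₀ i).hom fun a ha => ha)
  have hqφ : q ≫ φ = φ₀ i := CommRingCat.hom_ext (RingHom.ext fun a => rfl)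
  let adj := ΓSpec.locallyRingedSpaceAdjunction
  let g : Z ⟶ (Spec (CommRingCat.of (R ⧸ I i))).toLocallyRingedSpace := adj.homEquiv Z (op _) φ.op
  have hgi : g ≫ (Spec.map q).toLRSHom = i := by
    refine ((adj.homEquiv_naturality_right φ.op q.op).symm).trans ?_
    refine Eq.trans ?_ ((adj.homEquiv Z (op R)).apply_symm_apply i)
    refine congrArg _ (Eq.trans ?_ (homEquiv_symm_eq i).symm)
    exact congrArg Quiver.Hom.op hqφ
  have hq : Function.Surjective q.hom := Ideal.Quotient.mk_surjective
  haveI := IsClosedImmersion.spec_of_surjective q hq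
  have hjI : I i ≤ I (Spec.map q).toLRSHom := fun a ha => by
    show ((Scheme.ΓSpecIso R).inv ≫ (Spec.map q).appTop).hom a = 0
    rw [← Scheme.ΓSpecIso_inv_naturality, CommRingCat.comp_apply]
    rw [show q.hom a = 0 from Ideal.Quotient.eq_zero_iff_mem.2 ha]
    exact map_zero _
  haveI : IsIso g := by
    exact isIso_factor' g (Spec.map q).toLRSHom hgi he hs hg
      (Spec.map q).isClosedEmbedding (fun z => (Spec.map q).stalkMap_surjective z) hjI
  exact ⟨asIso g, hgi⟩

end Groth.Agent.LRSImm8
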