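import Groth.Agent.Lib.LRSImm8.Iso

/-!
Restriction of closed immersions of locally ringed spaces to affine opens.
-/

set_option autoImplicit false
set_option backward.isDefEq.respectTransparency false
set_option backward.isDefEq.respectTransparency.types false

universe u

open CategoryTheory TopologicalSpace Opposite AlgebraicGeometry

namespace Groth.Agent.LRSImm8

variable {Z X : LocallyRingedSpace.{u}}

/-- `LG` on stalks. -/
def LG' (i : Z ⟶ X) : Prop :=
  ∀ x : X.toTopCat, ∃ (U : Opens X.toTopCat) (_ : x ∈ U) (ι : Type u) (s : ι → X.presheaf.obj (op U)),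
    (∀ j, Killed i U (s j)) ∧
    (∀ (z : Z.toTopCat) (hz : i.base z ∈ U) (w : X.presheaf.stalk (i.base z)), (i.stalkMap z).hom w = 0 →
      w ∈ Ideal.span (Set.range fun j => X.presheaf.germ U (i.base z) hz (s j))) ∧
    ∀ (x' : X.toTopCat) (hx' : x' ∈ U), x' ∉ Set.range i.base →
      (1 : X.presheaf.stalk x') ∈ Ideal.span (Set.range fun j => X.presheaf.germ U x' hx' (s j))

theorem lg'_of {i : Z ⟶ X} (he : Topology.IsClosedEmbedding i.base) (h : LG i) : LG' i := fun x => by
  obtain ⟨U, hx, ι, s, hs, hspan⟩ := h x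
  refine ⟨U, hx, ι, s, hs, fun z hz w hw => ?_, fun x' hx' hn => ?_⟩
  · obtain ⟨W, hzW, t, ht, rfl⟩ := exists_killed he hw
    exact hspan _ hz W hzW t ht
  · rw [← map_one (X.presheaf.germ (⟨(Set.range i.base)ᶜ, he.isClosed_range.isOpen_compl⟩ : Opens X.toTopCat) x' hn).hom]
    exact hspan _ hx' _ hn 1 (killed_of_disjoint (fun z (hz : i.base z ∈ (Set.range i.base)ᶜ) => hz ⟨z, rfl⟩) _)

theorem lg_of' {i : Z ⟶ X} (h : LG' i) : LG i := fun x => by
  obtain ⟨U, hx, ι, s, hs, h1, h2⟩ := h x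
  refine ⟨U, hx, ι, s, hs, fun x' hx' W hW t ht => ?_⟩
  by_cases hr : x' ∈ Set.range i.base
  · obtain ⟨z, rfl⟩ := hr
    refine h1 z hx' _ ((LocallyRingedSpace.stalkMap_germ_apply i W z hW t).trans ?_)
    rw [show i.c.app (op W) t = 0 from ht]
    exact map_zero _
  · simpa using Ideal.mul_mem_left _ (X.presheaf.germ W x' hW t) (h2 x' hx' hr)

variable {Z₀ X₀ : LocallyRingedSpace.{u}} {i : Z ⟶ X} (i₀ : Z₀ ⟶ X₀) (h : Z₀ ⟶ Z) (j : X₀ ⟶ X)
  [∀ z, IsIso (h.stalkMap z)] [∀ x, IsIso (j.stalkMap x)]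
  (hsq : i₀ ≫ j = h ≫ i)
include hsq

omit [∀ z, IsIso (h.stalkMap z)] [∀ x, IsIso (j.stalkMap x)] in
theorem base_eq (z : Z₀.toTopCat) : j.base (i₀.base z) = i.base (h.base z) := by
  show (i₀ ≫ j).base z = (h ≫ i).base z
  rw [hsq]

omit [∀ x, IsIso (j.stalkMap x)] in
theorem surjStalks_restrict (hs : SurjStalks i) : SurjStalks i₀ := by
  have h1 : SurjStalks (h ≫ i) := fun z y => by
    obtain ⟨y', rfl⟩ := ((ConcreteCategory.isIso_iff_bijective (h.stalkMap z)).1 inferInstance).2 y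
    obtain ⟨w, rfl⟩ := hs (h.base z) y'
    exact ⟨w, ConcreteCategory.congr_hom (LocallyRingedSpace.stalkMap_comp h i z) w⟩
  intro z y
  obtain ⟨w, hw⟩ := (hsq.symm ▸ h1 : SurjStalks (i₀ ≫ j)) z y
  exact ⟨(j.stalkMap (i₀.base z)).hom w,
    (ConcreteCategory.congr_hom (LocallyRingedSpace.stalkMap_comp i₀ j z) w).symm.trans hw⟩

theorem lg'_restrict (hr : ∀ p : X₀.toTopCat, p ∉ Set.range i₀.base → j.base p ∉ Set.range i.base)
    (hg : LG' i) : LG' i₀ := fun p => by
  obtain ⟨U, hp, ι, s, hs, h1, h2⟩ := hg (j.base p)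
  refine ⟨(Opens.map j.base).obj U, hp, ι, fun a => j.c.app (op U) (s a), fun a => ?_, ?_, ?_⟩
  · have e : Killed (i₀ ≫ j) U (s a) := by
      rw [hsq]
      show h.c.app _ (i.c.app (op U) (s a)) = 0
      rw [show i.c.app (op U) (s a) = 0 from hs a]
      exact map_zero _
    exact e
  · intro z hz w hw
    obtain ⟨w, rfl⟩ := ((ConcreteCategory.isIso_iff_bijective (j.stalkMap (i₀.base z))).1 inferInstance).2 w
    have key : ∀ (k : Z₀ ⟶ X) (_ : h ≫ i = k) (hzk : k.base z ∈ U) (v : X.presheaf.stalk (k.base z)),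
        (k.stalkMap z).hom v = 0 → v ∈ Ideal.span (Set.range fun a => X.presheaf.germ U (k.base z) hzk (s a)) := by
      rintro k rfl hzk v hv
      refine h1 (h.base z) hzk v ?_
      apply ((ConcreteCategory.isIso_iff_bijective (h.stalkMap z)).1 inferInstance).1
      exact ((ConcreteCategory.congr_hom (LocallyRingedSpace.stalkMap_comp h i z) v).symm.trans hv).trans
        (map_zero _).symm
    have hmem := key (i₀ ≫ j) hsq.symm hz w
      ((ConcreteCategory.congr_hom (LocallyRingedSpace.stalkMap_comp i₀ j z) w).trans hw)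
    have := Ideal.mem_map_of_mem (j.stalkMap (i₀.base z)).hom hmem
    rw [Ideal.map_span, ← Set.range_comp] at this
    convert this using 4 with a
    exact (LocallyRingedSpace.stalkMap_germ_apply j U (i₀.base z) hz (s a)).symm
  · intro p' hp' hn
    have := Ideal.mem_map_of_mem (j.stalkMap p').hom (h2 (j.base p') hp' (hr p' hn))
    rw [Ideal.map_span, ← Set.range_comp, map_one] at this
    convert this using 4 with a
    exact (LocallyRingedSpace.stalkMap_germ_apply j U p' hp' (s a)).symm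

end Groth.Agent.LRSImm8
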